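import Cfsg.Agent.CoTwoThree.Defs
import Cfsg.Agent.CoTwoType.Spin
import Cfsg.Agent.U62Rec.Dichotomy

/-!
The natural configuration of the automorphism group of `PSp₄(3)` in the coordinates of the spin space:
an intertwining map, each generator as a product of transvections off the minus quadric and each such
transvection as a product of generators.  The data are produced by computation and checked here.
-/

set_option autoImplicit false
set_option maxRecDepth 100000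

namespace Cfsg.Agent.CoTwoThree

open Cfsg.Agent.CoTwoType Cfsg.Agent.U62Rec
open Cfsg.Agent.CoOneType (qn dc)

/-- The intertwining map. -/
def toSpin : ℕ := 7781893230138074745

/-- Its inverse. -/
def ofSpin : ℕ := 16617672854361271190

/-- The nine generators in the natural configuration. -/
def natGens : List ℕ := listN ++ [gNX]

/-- The code of a transvection on the spin space. -/
def tCode (a : ℕ) : ℕ :=
  pack (tCol a 0) (tCol a 1) (tCol a 2) (tCol a 3) (tCol a 4) (tCol a 5) (tCol a 6) (tCol a 7)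

/-- The code of a product. -/
def wCode (l : List ℕ) : ℕ := l.foldr U62Rec.cmp idm

/-- The generators as products of transvections. -/
def fwWords : List (List ℕ) := [
  [63, 36, 18, 5, 3, 1],
  [62, 36, 17, 5, 3, 1],
  [62, 33, 18, 5, 3, 1],
  [63, 33, 17, 5, 3, 1],
  [43, 41, 7, 5],
  [55, 49, 7, 1],
  [56, 43, 22, 5],
  [57, 35, 21, 5, 3, 1],
  [63, 33, 17]]

/-- The transvections as products of generators. -/
def bwWords : List (ℕ × List ℕ) := [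
  (1, [8, 4, 5, 6, 4, 5, 4, 2, 1]), (3, [8, 5, 6, 4, 5, 2, 0]), (5, [8, 6, 4, 1, 0]),
  (7, [2, 7, 8, 6, 7, 3, 2]), (8, [2, 7, 3, 8, 6, 7, 2]), (9, [1, 7, 7, 6, 7, 2, 8, 0]),
  (10, [8, 7, 6, 7, 4]), (11, [0, 7, 7, 6, 7, 2, 8, 1]), (12, [8, 7, 5, 6, 7, 4, 5]),
  (13, [7, 2, 8, 6, 7, 1, 0]), (14, [2, 0, 7, 8, 6, 7, 1, 1, 0]), (15, [8, 2, 7, 6, 1, 7, 5, 1]),
  (17, [8, 5, 6, 4, 5]), (18, [8, 5, 6, 4, 5, 3, 1]), (21, [1, 8, 2, 7, 6, 7, 7, 0]),
  (22, [0, 8, 7, 6, 7, 4, 0, 0]), (24, [0, 7, 2, 8, 6, 7, 1]), (25, [0, 0, 7, 6, 7, 8, 4, 0]),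
  (28, [8, 0, 7, 6, 7, 4, 0]), (29, [7, 5, 6, 7, 8, 4, 5]), (33, [8, 6, 4]),
  (35, [7, 7, 6, 7, 3, 8, 2]), (36, [8, 6, 4, 3, 2]), (38, [7, 8, 6, 2, 7, 1, 0]),
  (40, [1, 7, 8, 6, 2, 7, 0]), (41, [8, 7, 6, 2, 7, 4, 3]), (42, [0, 7, 8, 6, 2, 7, 1]),
  (43, [7, 6, 7, 8, 4]), (49, [0, 8, 1, 7, 7, 6, 7, 2, 0]), (50, [8, 1, 7, 6, 7, 4, 1]),
  (52, [1, 7, 2, 8, 6, 7, 0]), (55, [1, 1, 7, 6, 7, 8, 4, 1]), (56, [1, 8, 7, 6, 7, 4, 1, 1]),
  (57, [0, 8, 2, 7, 6, 7, 7, 1]), (62, [8, 4, 5, 6, 4, 5, 4, 3, 0]), (63, [8, 4, 5, 6, 4, 5, 4])]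

theorem spin_inv : U62Rec.cmp toSpin ofSpin = idm ∧ U62Rec.cmp ofSpin toSpin = idm := by decide +kernel

theorem spin_form : ∀ v : Fin 256, qn (app toSpin v.val) = qv 255 v.val := by decide +kernel

theorem fw_ok : ∀ k : Fin 9,
    (fwWords.getD k.val []).all (fun a => decide (a < 64) && qMinus a) = true ∧
      U62Rec.cmp toSpin (U62Rec.cmp (natGens.getD k.val 0) ofSpin) = wCode ((fwWords.getD k.val []).map tCode) := by
  decide +kernel

theorem bw_ok : ∀ a : Fin 64, qMinus a.val = true → ∃ w ∈ bwWords, w.1 = a.val ∧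
    w.2.all (fun k => decide (k < 9)) = true ∧
      U62Rec.cmp toSpin (U62Rec.cmp (wCode (w.2.map fun k => natGens.getD k 0)) ofSpin) = tCode a.val := by
  decide +kernel

theorem app_tCode (a : Fin 64) (v : ℕ) : app (tCode a.val) v = tn a.val v := by
  obtain ⟨h0, h1, h2, h3, h4, h5, h6, h7⟩ := byte_pack (tCol_lt a 0) (tCol_lt a 1) (tCol_lt a 2)
    (tCol_lt a 3) (tCol_lt a 4) (tCol_lt a 5) (tCol_lt a 6) (tCol_lt a 7)
  simp only [Fin.val_zero, Fin.val_one, Fin.val_two, show ((3 : Fin 8) : ℕ) = 3 from rfl,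
    show ((4 : Fin 8) : ℕ) = 4 from rfl, show ((5 : Fin 8) : ℕ) = 5 from rfl,
    show ((6 : Fin 8) : ℕ) = 6 from rfl, show ((7 : Fin 8) : ℕ) = 7 from rfl] at h0 h1 h2 h3 h4 h5 h6 h7
  simp only [app, tCode, h0, h1, h2, h3, h4, h5, h6, h7, sel_def, tn]
  ac_rfl

end Cfsg.Agent.CoTwoThree
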