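import Cfsg.Agent.CoTwoThree.Id.Rep
import Cfsg.Agent.CoTwoThree.KData
import Cfsg.Agent.Fg24.ExtraTwo

/-!
The data of the module stage on `C(t) / ⟨t⟩` from the data on the involution, and what the module
stage then gives: `C(t)` normalizes `K`.
-/

set_option autoImplicit false
set_option linter.unusedSectionVars false
set_option maxRecDepth 100000

open Cfsg Cfsg.Agent.ThreeTrans.OrthCohom Cfsg.Agent.Classical.Quad QuadraticMap Subgroup

namespace Cfsg.Agent.CoTwoThree

open Cfsg.Agent.CoTwoType Cfsg.Agent.LargeExtra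
open Cfsg.Agent.CoOneType (V O)

universe u

section heis

variable {c : ZMod 2}

theorem hv_mul (x y : Heis 3 c) : (x * y).v = x.v + y.v := by rw [Heis.mul_def]

theorem hv_inv (x : Heis 3 c) : x⁻¹.v = x.v := by
  rw [Heis.inv_def]
  first | rfl | exact ZModModule.neg_eq_self _

theorem hv_conj (x y : Heis 3 c) : (x * y * x⁻¹).v = y.v := by
  rw [hv_mul, hv_mul, hv_inv, add_comm x.v y.v, add_assoc, w_add_self, add_zero]

theorem heis_split (x : Heis 3 c) : x = ⟨x.v, 0⟩ * ⟨0, x.s⟩ := by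
  rw [Heis.mul_def]
  refine Heis.ext (add_zero _).symm ?_
  simp [hbeta]

end heis

variable {G : Type u} [Group G] [Finite G] {D : Local G} (KD : KData D)

theorem KData.le_normC : KD.K ≤ D.normC KD.K := le_inf le_normalizer KD.leK

/-- The representation of `N(K) ⊓ C(t)` on `K / ⟨t⟩` in the coordinates of the spin space. -/
theorem exists_action :
    ∃ (f : ↥KD.K → V) (ψ : ↥(D.normC KD.K) →* O),
      (∀ a b, f (a * b) = f a + f b) ∧ (∀ a, f a = 0 ↔ (a : G) ∈ zpowers D.t) ∧ Function.Surjective f ∧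
      (∀ n : ↥(D.normC KD.K), ∀ a b : ↥KD.K, (b : G) = (n : G) * a * (n : G)⁻¹ → f b = (ψ n).1 (f a)) ∧
      (∀ n : ↥(D.normC KD.K), ψ n = 1 → (n : G) ∈ KD.K) ∧ (ψ.range = u4 ∨ ψ.range = sp6) := by
  classical
  have : Fact (Nat.Prime 2) := ⟨Nat.prime_two⟩
  obtain ⟨hnorm, hq⟩ := KD.quot
  obtain ⟨m, c, ⟨ε0⟩⟩ := Fg24.ExtraTwo.exists_equiv_heis KD.extK
  obtain rfl : m = 3 := by
    have h := Nat.card_congr ε0.toEquiv
    rw [KD.cardK, Heis.card] at h
    have := Nat.pow_right_injective le_rfl h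
    omega
  set Q := KD.K.subgroupOf (D.normC KD.K) with hQ
  let ε : ↥Q ≃* Heis 3 c := (subgroupOfEquivOfLe KD.le_normC).trans ε0
  have hε : ∀ r : ↥Q, ε r = ε0 ⟨((r : ↥(D.normC KD.K)) : G), r.2⟩ := fun r => rfl
  have hcentC : ∀ d : ↥(D.normC KD.K), (∀ q ∈ Q, q * d = d * q) → d ∈ Q := fun d hd =>
    KD.selfK ⟨d.2, mem_centralizer_iff.2 fun g hg => congrArg Subtype.val (hd ⟨g, KD.le_normC hg⟩ hg)⟩
  let cg : ↥(D.normC KD.K) →* MulAut (Heis 3 c) := ((MulAut.congr ε).toMonoidHom).comp MulAut.conjNormal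
  let ρ : ↥(D.normC KD.K) →* oG (qH c) := (qmap c).comp cg
  have hρ : ∀ (d : ↥(D.normC KD.K)) (r : ↥Q) (hr : d * r * d⁻¹ ∈ Q),
      (ρ d).1 (ε r).v = (ε ⟨d * r * d⁻¹, hr⟩).v := fun d r hr => by
    rw [show (ρ d).1 (ε r).v = (cg d (ε r)).v from qmap_apply c (cg d) (ε r)]
    simp only [cg, MonoidHom.comp_apply, MulEquiv.coe_toMonoidHom, MulAut.congr_apply, MulEquiv.trans_apply,
      MulEquiv.symm_apply_apply]
    exact congrArg (fun x : ↥Q => (ε x).v) (Subtype.ext rfl)
  have hker : ρ.ker = Q := by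
    refine le_antisymm (fun d hd => ?_) fun d hd => ?_
    · obtain ⟨h, hh⟩ := qmap_ker c (show cg d ∈ (qmap c).ker from hd)
      have hx : ∀ r : ↥Q, ((ε.symm h : ↥Q) : ↥(D.normC KD.K))⁻¹ * d * r =
          r * (((ε.symm h : ↥Q) : ↥(D.normC KD.K))⁻¹ * d) := by
        intro r
        have h1 := congrArg (fun α : MulAut (Heis 3 c) => ε.symm (α (ε r))) hh
        simp [cg] at h1
        have h2 : ((ε.symm h : ↥Q) : ↥(D.normC KD.K)) * r * ((ε.symm h : ↥Q) : ↥(D.normC KD.K))⁻¹ =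
            d * r * d⁻¹ := by
          have h3 := congrArg Subtype.val h1
          rwa [MulAut.conjNormal_apply, Subgroup.coe_mul, Subgroup.coe_mul, Subgroup.coe_inv] at h3
        calc ((ε.symm h : ↥Q) : ↥(D.normC KD.K))⁻¹ * d * r
            = ((ε.symm h : ↥Q) : ↥(D.normC KD.K))⁻¹ * (d * r * d⁻¹) * d := by group
          _ = r * (((ε.symm h : ↥Q) : ↥(D.normC KD.K))⁻¹ * d) := by rw [← h2]; group
      have hm := hcentC _ fun r hr => (hx ⟨r, hr⟩).symm
      have := mul_mem (ε.symm h).2 hm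
      rwa [mul_inv_cancel_left] at this
    · refine Subtype.ext (LinearEquiv.ext fun v => ?_)
      obtain ⟨r, hr⟩ := ε.surjective ⟨v, 0⟩
      have hm : d * r * d⁻¹ ∈ Q := mul_mem (mul_mem hd r.2) (inv_mem hd)
      have h := hρ d r hm
      rw [hr] at h
      show (ρ d).1 v = v
      rw [h, show (⟨d * r * d⁻¹, hm⟩ : ↥Q) = ⟨d, hd⟩ * r * ⟨d, hd⟩⁻¹ from rfl, map_mul, map_mul, map_inv,
        hv_conj, hr]
  -- the centre
  have hzC : ∀ g ∈ KD.K, g * D.t = D.t * g := fun g hg => mem_centralizer_singleton_iff.1 (KD.leK hg)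
  set tK : ↥KD.K := ⟨D.t, KD.tK⟩
  have hzv : (ε0 tK).v = 0 := LargeExtra.hB_nondeg fun w => by
    refine (Heis.comm_iff _ ⟨w, 0⟩).1 ?_
    obtain ⟨y, hy⟩ := ε0.surjective ⟨w, 0⟩
    rw [← hy, ← map_mul, ← map_mul]
    congr 1
    exact Subtype.ext (hzC _ y.2).symm
  have ht1 : D.t ≠ 1 := fun h => by
    have := D.ot
    rw [h, orderOf_one] at this
    omega
  have hzs : (ε0 tK).s = 1 := (z2_cases _).resolve_left fun h => ht1
    (congrArg Subtype.val (ε0.map_eq_one_iff.1 (Heis.ext hzv h)))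
  have hzero : ∀ x : ↥KD.K, (ε0 x).v = 0 ↔ (x : G) ∈ zpowers D.t := fun x => by
    constructor
    · intro hx
      rcases z2_cases (ε0 x).s with h | h
      · rw [ε0.map_eq_one_iff.1 (Heis.ext hx h)]; exact one_mem _
      · rw [(ε0.injective (Heis.ext (hx.trans hzv.symm) (h.trans hzs.symm)) : x = tK)]
        exact mem_zpowers D.t
    · intro hx
      obtain ⟨k, hk⟩ := mem_zpowers_iff.1 hx
      obtain rfl : x = tK ^ k := Subtype.ext hk.symm
      rw [map_zpow]
      induction k with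
      | zero => rw [zpow_zero]; rfl
      | succ k ih => rw [zpow_add_one, hv_mul, hzv, add_zero]; exact ih (zpow_mem (mem_zpowers D.t) _) rfl
      | pred k ih =>
        rw [zpow_sub_one, hv_mul, hv_inv, hzv, add_zero]; exact ih (zpow_mem (mem_zpowers D.t) _) rfl
  -- the action of the quotient
  have : Q.Normal := hnorm
  let ρb : ↥(D.normC KD.K) ⧸ Q →* oG (qH c) := QuotientGroup.lift Q ρ hker.ge
  have hρb : Function.Injective ρb := (injective_iff_map_eq_one ρb).2 fun x hx => by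
    obtain ⟨d, rfl⟩ := QuotientGroup.mk_surjective x
    refine (QuotientGroup.eq_one_iff d).2 ?_
    rw [← hker]
    exact hx
  have hcard : Nat.card (HV 3) = 256 := by rw [LargeExtra.hcard]; norm_num
  have hfree : ∀ v, (∀ x, x ^ 3 = 1 → (ρb x).1 v = v) → v = 0 := by
    intro v hv
    obtain ⟨k, hk⟩ := ε0.surjective ⟨v, 0⟩
    have hk' := KD.free k k.2 fun e he h3 => by
      let kQ : ↥Q := ⟨⟨k, KD.le_normC k.2⟩, k.2⟩
      have hm : (⟨e, he⟩ : ↥(D.normC KD.K)) * kQ * (⟨e, he⟩ : ↥(D.normC KD.K))⁻¹ ∈ Q :=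
        hnorm.conj_mem _ kQ.2 _
      have h1 := hv (QuotientGroup.mk ⟨e, he⟩) (by
        rw [← QuotientGroup.mk_pow, show (⟨e, he⟩ : ↥(D.normC KD.K)) ^ 3 = 1 from Subtype.ext h3,
          QuotientGroup.mk_one])
      have h2 := hρ ⟨e, he⟩ kQ hm
      rw [show ε kQ = ε0 k from rfl, hk, show (ρ ⟨e, he⟩).1 v = v from h1, hε] at h2
      have hmG : e * (k : G) * e⁻¹ ∈ KD.K := hm
      have h4 := (hzero (⟨e * (k : G) * e⁻¹, hmG⟩ * k⁻¹)).1 (by
        rw [map_mul, map_inv, hv_mul, hv_inv, hk]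
        show (ε0 ⟨e * (k : G) * e⁻¹, hmG⟩).v + v = 0
        rw [show (ε0 ⟨e * (k : G) * e⁻¹, hmG⟩).v = v from h2.symm, w_add_self])
      exact h4
    have := (hzero k).2 hk'
    rwa [hk] at this
  obtain ⟨r, hr, hrange⟩ := ident (qH_nondeg c) hcard ρb hρb hq hfree
  let F : oG (qH c) →* O := (oCongr r.symm hr).toMonoidHom
  refine ⟨fun a => r.symm (ε0 a).v, F.comp ρ, fun a b => by simp only [map_mul, hv_mul, map_add],
    fun a => (r.symm.map_eq_zero_iff).trans (hzero a), fun v => ?_, fun n a b hb => ?_, fun n hn => ?_, ?_⟩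
  · obtain ⟨a, ha⟩ := ε0.surjective ⟨r v, 0⟩
    exact ⟨a, by show r.symm (ε0 a).v = v; rw [ha, LinearEquiv.symm_apply_apply]⟩
  · let aQ : ↥Q := ⟨⟨a, KD.le_normC a.2⟩, a.2⟩
    have h := hρ n aQ (hnorm.conj_mem _ aQ.2 n)
    show r.symm (ε0 b).v = r.symm ((ρ n).1 (r (r.symm (ε0 a).v)))
    rw [LinearEquiv.apply_symm_apply, show (ρ n).1 (ε0 a).v = _ from h, hε]
    exact congrArg (fun x : ↥KD.K => r.symm (ε0 x).v) (Subtype.ext hb)
  · have : n ∈ Q := by
      rw [← hker]
      exact (oCongr r.symm hr).map_eq_one_iff.1 hn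
    exact this
  · have e : (F.comp ρ).range = (F.comp ρb).range := by
      rw [show ρ = ρb.comp (QuotientGroup.mk' Q) from rfl, ← MonoidHom.comp_assoc]
      exact SetLike.coe_injective ((QuotientGroup.mk'_surjective Q).range_comp (F.comp ρb))
    rw [e]
    exact hrange

/-- **Given the module stage, `C(t)` normalizes `K`.** -/
theorem centralizer_le_normC (h : CTStmt.{u}) : centralizer ({D.t} : Set G) ≤ D.normC KD.K := by
  classical
  obtain ⟨f, ψ, hadd, hzero, hsurj, hact, hker, hrange⟩ := exists_action KD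
  set C := centralizer ({D.t} : Set G)
  set T := (zpowers D.t).subgroupOf C with hT
  have ht2 : D.t * D.t = 1 := by
    have := pow_orderOf_eq_one D.t
    rwa [D.ot, pow_two] at this
  have hTn : T.Normal := ⟨fun a ha g => by
    have hc : Commute (g : G) (a : G) := by
      obtain ⟨k, hk⟩ := mem_zpowers_iff.1 (mem_subgroupOf.1 ha)
      rw [← hk]
      exact Commute.zpow_right (mem_centralizer_singleton_iff.1 g.2) k
    rwa [show g * a * g⁻¹ = a from Subtype.ext (by simp [hc.eq])]⟩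
  have htN : zpowers D.t ≤ KD.K := zpowers_le.2 KD.tK
  let j : ↥(D.normC KD.K) →* ↥C ⧸ T := (QuotientGroup.mk' T).comp (inclusion inf_le_right)
  have hj : ∀ n, j n = 1 ↔ (n : G) ∈ zpowers D.t := fun n =>
    (QuotientGroup.eq_one_iff _).trans mem_subgroupOf
  let jk : ↥KD.K → ↥C ⧸ T := fun a => j (inclusion KD.le_normC a)
  have hjk : ∀ a b, f a = f b → jk a = jk b := fun a b e => by
    refine inv_mul_eq_one.1 ?_
    show (j _)⁻¹ * j _ = 1
    rw [← map_inv, ← map_mul, hj]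
    refine (hzero (a⁻¹ * b)).1 ?_
    have h1 : f (a⁻¹ * b) + f a = f b := by
      rw [add_comm, ← hadd, mul_inv_cancel_left]
    rwa [← e, add_eq_right] at h1
  choose sec hsec using hsurj
  let co : Multiplicative V →* ↥C ⧸ T := MonoidHom.mk' (fun v => jk (sec v.toAdd)) fun v w => by
    show jk _ = jk _ * jk _
    rw [show jk (sec v.toAdd) * jk (sec w.toAdd) = jk (sec v.toAdd * sec w.toAdd) by
      show j _ * j _ = j _; rw [← map_mul, ← map_mul]]
    exact hjk _ _ (by rw [hadd, hsec, hsec, hsec]; rfl)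
  have hco : ∀ a, co (Multiplicative.ofAdd (f a)) = jk a := fun a => hjk _ _ (hsec _)
  have hle : j.ker ≤ ψ.ker := fun n hn => by
    refine Subtype.ext (LinearEquiv.ext fun v => ?_)
    have hn' : (n : G) ∈ zpowers D.t := (hj n).1 hn
    show (ψ n).1 v = v
    have hcomm : Commute (n : G) ((sec v : ↥KD.K) : G) := by
      obtain ⟨k, hk⟩ := mem_zpowers_iff.1 hn'
      rw [← hk]
      exact (Commute.zpow_right (mem_centralizer_singleton_iff.1 (KD.leK (sec v).2)) k).symm
    have := hact n (sec v) (sec v) (by rw [hcomm.eq, mul_inv_cancel_right])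
    rwa [hsec, eq_comm] at this
  let act : ↥j.range →* O :=
    j.rangeRestrict.liftOfSurjective j.rangeRestrict_surjective ⟨ψ, by rwa [MonoidHom.ker_rangeRestrict]⟩
  have hactj : ∀ n, act (j.rangeRestrict n) = ψ n := fun n =>
    MonoidHom.liftOfRightInverse_comp_apply _ _ _ _ n
  have hmemN : ∀ n : G, ∀ w ∈ zpowers D.t, n * w ∈ D.normC KD.K → n ∈ D.normC KD.K := fun n w hw hn => by
    simpa using mul_mem hn (inv_mem (KD.le_normC (htN hw)))
  have hmk : ∀ g : ↥C, QuotientGroup.mk' T g ∈ j.range → (g : G) ∈ D.normC KD.K := by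
    rintro g ⟨n, hn⟩
    have h1 : ((inclusion inf_le_right n : ↥C)⁻¹ * g) ∈ T := (QuotientGroup.eq).1 hn
    have h2 := mul_mem n.2 (KD.le_normC (htN (mem_subgroupOf.1 h1)))
    change (n : G) * ((n : G)⁻¹ * (g : G)) ∈ D.normC KD.K at h2
    rwa [mul_inv_cancel_left] at h2
  let CD : CTData (↥C ⧸ T) :=
    { L := j.range
      co := co
      co_inj := (injective_iff_map_eq_one co).2 fun v hv => by
        have h1 : ((sec v.toAdd : ↥KD.K) : G) ∈ zpowers D.t := (hj _).1 hv
        have h2 := (hzero _).2 h1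
        rw [hsec] at h2
        exact h2
      co_le := by
        rintro _ ⟨v, rfl⟩
        exact ⟨_, rfl⟩
      normalizer_le := fun g hg => by
        obtain ⟨g, rfl⟩ := QuotientGroup.mk'_surjective T g
        refine ⟨⟨g, ?_, g.2⟩, rfl⟩
        have hsub : ∀ k ∈ KD.K, (g : G) * k * (g : G)⁻¹ ∈ KD.K := fun k hk => by
          have h1 : QuotientGroup.mk' T g * jk ⟨k, hk⟩ * (QuotientGroup.mk' T g)⁻¹ ∈ co.range :=
            (mem_normalizer_iff.1 hg _).1 ⟨_, hco ⟨k, hk⟩⟩
          obtain ⟨v, hv⟩ := h1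
          let kC : ↥C := ⟨k, KD.leK hk⟩
          have h2 : ((inclusion KD.leK (sec v.toAdd) : ↥C))⁻¹ * (g * kC * g⁻¹) ∈ T :=
            (QuotientGroup.eq).1 hv
          have h3 := mul_mem (sec v.toAdd).2 (htN (mem_subgroupOf.1 h2))
          simpa [kC, mul_assoc] using h3
        exact mem_normalizer_fintype hsub
      act := act
      act_co := fun l v => by
        obtain ⟨n, rfl⟩ := j.rangeRestrict_surjective l
        obtain ⟨a, rfl⟩ : ∃ a, f a = v := ⟨sec v, hsec v⟩
        have hb : (n : G) * a * (n : G)⁻¹ ∈ KD.K := (mem_normalizer_iff.1 n.2.1 _).1 a.2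
        rw [hactj, hco, ← hact n a ⟨_, hb⟩ rfl, hco]
        show j n * j _ * (j n)⁻¹ = j _
        rw [← map_inv, ← map_mul, ← map_mul]
        rfl
      act_ker := fun l hl => by
        obtain ⟨n, rfl⟩ := j.rangeRestrict_surjective l
        rw [hactj] at hl
        exact ⟨_, hco ⟨n, hker n hl⟩⟩
      act_range := by
        have e : act.range = ψ.range := by
          rw [show ψ = act.comp j.rangeRestrict from MonoidHom.ext fun n => (hactj n).symm]
          exact (SetLike.coe_injective (j.rangeRestrict_surjective.range_comp act)).symm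
        rw [e]
        exact hrange
      three := by
        rintro _ ⟨n, rfl⟩ h3 hne ⟨_, ⟨v, rfl⟩, hk1, hcomm⟩
        have hn3 : ((n ^ 3 : ↥(D.normC KD.K)) : G) ∈ zpowers D.t := (hj _).1 (by rw [map_pow]; exact h3)
        set m : ↥(D.normC KD.K) := n ^ 4
        have hm1 : j m = j n := by rw [map_pow, pow_succ, h3, one_mul]
        have hm3 : (m : G) ^ 3 = 1 := by
          show ((n ^ 4 : ↥(D.normC KD.K)) : G) ^ 3 = 1
          rw [SubmonoidClass.coe_pow, ← pow_mul, show 4 * 3 = 3 * 4 from rfl, pow_mul]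
          obtain ⟨k, hk⟩ := mem_zpowers_iff.1 hn3
          rw [SubmonoidClass.coe_pow] at hk
          rw [← hk, ← zpow_natCast, ← zpow_mul, show k * ((4 : ℕ) : ℤ) = (2 : ℤ) * (2 * k) by push_cast; ring,
            zpow_mul, zpow_two, ht2, one_zpow]
        have hk : ∃ k ∈ KD.K, k ∉ zpowers D.t ∧ (m : G) * k * (m : G)⁻¹ * k⁻¹ ∈ zpowers D.t := by
          refine ⟨_, (sec v.toAdd).2, fun h => hk1 ((hj _).2 h), ?_⟩
          refine (hj (m * inclusion KD.le_normC (sec v.toAdd) * m⁻¹ *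
            (inclusion KD.le_normC (sec v.toAdd))⁻¹)).1 ?_
          rw [map_mul, map_mul, map_mul, map_inv, map_inv, hm1]
          show j n * co v * (j n)⁻¹ * (co v)⁻¹ = 1
          rw [hcomm.eq]
          group
        have hrig := KD.rigid m m.2 hm3 (fun h => hne (by rw [← hm1, show m = 1 from Subtype.ext h, map_one])) hk
        intro g hg
        obtain ⟨g, rfl⟩ := QuotientGroup.mk'_surjective T g
        rw [← hm1] at hg
        have h1 := hmk (g * inclusion inf_le_right m * g⁻¹) (by rwa [map_mul, map_mul, map_inv])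
        exact ⟨⟨g, hrig g g.2 h1⟩, rfl⟩ }
  intro g hg
  refine hmk ⟨g, hg⟩ ?_
  rw [show j.range = CD.L from rfl, h _ CD]
  exact mem_top _

end Cfsg.Agent.CoTwoThree
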