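import Cfsg.Agent.CoTwoThree.Id.Code
import Cfsg.Agent.CoTwoType.Build
import Cfsg.Agent.U62Rec.Setup

/-!
A faithful action of `Aut PSp₄(3)` or `Sp(6, 2)` by isometries on a space of dimension eight, in which
the elements of order three have no common fixed vector, is given by `u4`, respectively by `sp6`, in
suitable coordinates.
-/

set_option autoImplicit false
set_option maxRecDepth 100000

open Cfsg Cfsg.Agent.ThreeTrans.OrthCohom Cfsg.Agent.Classical.Quad QuadraticMap

namespace Cfsg.Agent.CoTwoThree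

open Cfsg.Agent.CoTwoType Cfsg.Agent.U62Rec
open Cfsg.Agent.CoOneType (V O dc enc dc_inj' dc_surj dc_xor qn qP_dc bz)

variable {W : Type*} [AddCommGroup W] [Module (ZMod 2) W] [Finite W] {Qf : QuadraticForm (ZMod 2) W}

/-- The order of the automorphism group of `PSp₄(3)`. -/
theorem card_autPSp : Nat.card (MulAut (Cfsg.PSp 2 (ZMod 3))) = 51840 := by
  haveI : Fact (Nat.Prime 3) := ⟨by norm_num⟩
  rw [AutPSp.card_mulAut 3 le_rfl, card_psp_three, AutPSp.index_inndiag 3 le_rfl (fun _ => by norm_num),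
    Nat.card_zmod]
  have : Subsingleton (ZMod 3 ≃+* ZMod 3) := ⟨fun f g => RingEquiv.ext fun x => by
    exact RingHom.congr_fun (RingHom.ext_zmod (f : ZMod 3 →+* ZMod 3) g) x⟩
  rw [Nat.card_eq_one_iff_unique.2 ⟨this, ⟨RingEquiv.refl _⟩⟩]
  rfl

theorem decide_one_add : ∀ a b : ZMod 2, decide (a + b = 1) = (decide (a = 1) ^^ decide (b = 1)) := by
  decide

theorem bz_decide : ∀ a : ZMod 2, bz (decide (a = 1)) = a := by decide

/-- The action of a group of isometries, as a representation on codes. -/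
def repOf (hnd : (polarBilin Qf).Nondegenerate) (hcard : Nat.card W = 256) {Lb : Type*} [Group Lb]
    (ρ : Lb →* oG Qf) (hρ : Function.Injective ρ) : Rep Lb W where
  act x v := (ρ x).1 v
  act_one v := by rw [map_one]; rfl
  act_mul x y v := by rw [map_mul]; rfl
  act_add x v w := map_add _ v w
  B v w := decide (polar Qf v w = 1)
  q v := decide (Qf v = 1)
  B_act x v w := by
    show decide (polar Qf ((ρ x).1 v) ((ρ x).1 w) = 1) = _
    rw [polar, ← map_add, (ρ x).2, (ρ x).2, (ρ x).2]
    rfl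
  q_act x v := by rw [(ρ x).2]
  B_add a b c := by rw [polar_add_left, decide_one_add]
  B_comm a b := by rw [polar_comm]
  B_self a := by rw [polar_self, two_nsmul, ZModModule.add_self]; rfl
  B_nondeg v hv := by
    by_contra hc
    push Not at hc
    refine hv (hnd.1 v fun w => ?_)
    rw [polarBilin_apply_apply]
    exact ((by decide : ∀ a : ZMod 2, decide (a = 1) = false → a = 0) _ (Bool.eq_false_iff.2 (hc w)))
  q_add a b := by rw [QuadraticMap.map_add Qf, decide_one_add, decide_one_add]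
  two v := ZModModule.add_self v
  faith x h := hρ (by rw [map_one]; exact ext_oG h)
  card := hcard

section frame

variable {Lb : Type*} [Group Lb] {R : Rep Lb W} {e : Fin 8 → W}

theorem q_vec {l : ℕ} (Fr : R.Frame e l) : ∀ n < 256, R.q (vec e n) = qv l n := by
  intro n
  induction n using Nat.strong_induction_on with
  | _ n ih =>
    intro hn
    rcases unit_step n hn with rfl | ⟨j, hj⟩
    · rw [vec_zero, qv_zero]
      have h := R.q_add 0 0
      rw [add_zero, R.B_zero, Bool.xor_self, Bool.false_xor] at h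
      exact h
    · have e1 : n = (n ^^^ 2 ^ (j : ℕ)) ^^^ 2 ^ (j : ℕ) := by
        rw [Nat.xor_assoc, Nat.xor_self, Nat.xor_zero]
      conv_lhs => rw [e1, R.vec_xor, R.q_add, ih _ hj (hj.trans hn), vec_unit, Fr.q_e,
        Fr.B_vec j _ (hj.trans hn)]
      conv_rhs => rw [e1, qv_xor]

theorem enc_add (x y : V) : enc (x + y) = enc x ^^^ enc y := by
  obtain ⟨i, rfl⟩ := dc_surj x
  obtain ⟨j, rfl⟩ := dc_surj y
  rw [← dc_xor, dc_inj', dc_inj', dc_inj' ⟨i.val ^^^ j.val, Nat.xor_lt_two_pow (n := 8) i.2 j.2⟩]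

/-- The coordinates of a natural frame. -/
theorem exists_coord (Fr : R.Frame e 255) :
    ∃ r : V ≃ₗ[ZMod 2] W, ∀ n < 256, r (dc n) = vec e (app ofSpin n) := by
  let f : V →+ W := AddMonoidHom.mk' (fun x => vec e (app ofSpin (enc x))) fun x y => by
    rw [enc_add, app_xor, R.vec_xor]
  have hinj : Function.Injective f := fun x y h => by
    obtain ⟨i, rfl⟩ := dc_surj x
    obtain ⟨j, rfl⟩ := dc_surj y
    have h1 := Fr.vec_inj (app_lt _ _) (app_lt _ _) (h :)
    rw [dc_inj', dc_inj'] at h1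
    have h2 := congrArg (app toSpin) h1
    rw [← app_cmp, ← app_cmp, spin_inv.1, app_idm i.2, app_idm j.2] at h2
    rw [h2]
  have hbij : Function.Bijective (f.toZModLinearMap 2) := by
    refine (Nat.bijective_iff_injective_and_card _).2 ⟨hinj, ?_⟩
    rw [R.card]; simp [Nat.card_fun, Nat.card_zmod]
  refine ⟨LinearEquiv.ofBijective _ hbij, fun n hn => ?_⟩
  show vec e (app ofSpin (enc (dc n))) = _
  rw [dc_inj' ⟨n, hn⟩]

theorem moves_wCode {cl : ℕ → ℕ} {xl : ℕ → Lb} (w : List ℕ) (h : ∀ k ∈ w, R.Moves e (cl k) (xl k)) :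
    R.Moves e (wCode (w.map cl)) (w.map xl).prod := by
  induction w with
  | nil => simp only [List.map_nil, wCode, List.foldr_nil, List.prod_nil]; exact R.moves_one e
  | cons k w ih =>
    simp only [List.map_cons, wCode, List.foldr_cons, List.prod_cons]
    exact R.moves_mul (h k List.mem_cons_self) (ih fun j hj => h j (List.mem_cons_of_mem _ hj))

end frame

theorem mem_closure_of_prod {Lb : Type*} [Group Lb] (xs : List Lb) (w : List Lb) (h : ∀ y ∈ w, y ∈ xs) :
    w.prod ∈ Subgroup.closure {y | y ∈ xs} :=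
  list_prod_mem fun y hy => Subgroup.subset_closure (h y hy)

/-- The natural configuration gives `u4`. -/
theorem range_of_nat {Lb : Type*} [Group Lb] (ρ : Lb →* O) (xs : List Lb) (hlen : xs.length = 9)
    (htop : Subgroup.closure {y | y ∈ xs} = ⊤)
    (hspec : ∀ w : List ℕ, (∀ k ∈ w, k < 9) → ∀ v : Fin 256, (ρ (w.map fun k => xs.getD k 1).prod).1 (dc v.val) =
      dc (app (U62Rec.cmp toSpin (U62Rec.cmp (wCode (w.map fun k => natGens.getD k 0)) ofSpin)) v.val)) :
    ρ.range = u4 := by
  have hT : ∀ a : Fin 64, qMinus a.val = true → ∃ o ∈ ρ.range, o ∈ u4Gens ∧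
      ∀ v : Fin 256, o.1 (dc v.val) = dc (tn a.val v.val) := by
    intro a ha
    obtain ⟨w, -, -, hw9, hcode⟩ := bw_ok a ha
    have h9 : ∀ k ∈ w.2, k < 9 := fun k hk => of_decide_eq_true (List.all_eq_true.1 hw9 k hk)
    refine ⟨ρ (w.2.map fun k => xs.getD k 1).prod, ⟨_, rfl⟩, ?_, ?_⟩
    · refine ⟨a, ha, fun v => ?_⟩
      rw [hspec w.2 h9, hcode, app_tCode]
    · intro v
      rw [hspec w.2 h9, hcode, app_tCode]
  refine le_antisymm ?_ ((Subgroup.closure_le _).2 ?_)
  · rw [MonoidHom.range_eq_map, ← htop, MonoidHom.map_closure, Subgroup.closure_le]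
    rintro _ ⟨y, hy, rfl⟩
    obtain ⟨k, hk, rfl⟩ := List.getElem_of_mem hy
    rw [hlen] at hk
    obtain ⟨hall, hcode⟩ := fw_ok ⟨k, hk⟩
    have key : ∀ l : List ℕ, l.all (fun a => decide (a < 64) && qMinus a) = true →
        ∃ o ∈ u4, ∀ v < 256, o.1 (dc v) = dc (app (wCode (l.map tCode)) v) := by
      intro l
      induction l with
      | nil => exact fun _ => ⟨1, one_mem _, fun v hv => by rw [List.map_nil, wCode, List.foldr_nil, app_idm hv]; rfl⟩
      | cons a l ih =>
        intro h
        simp only [List.all_cons, Bool.and_eq_true, decide_eq_true_eq] at h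
        obtain ⟨⟨ha, hq⟩, hl⟩ := h
        obtain ⟨o, ho, hov⟩ := ih hl
        obtain ⟨o', -, ho'g, ho'v⟩ := hT ⟨a, ha⟩ hq
        refine ⟨o' * o, mul_mem (Subgroup.subset_closure ho'g) ho, fun v hv => ?_⟩
        rw [oG_mul_apply, hov v hv, ho'v ⟨_, app_lt _ _⟩, List.map_cons]
        simp only [wCode, List.foldr_cons, app_cmp]
        rw [show tCode a = tCode (⟨a, ha⟩ : Fin 64).val from rfl, app_tCode]
    obtain ⟨o, ho, hov⟩ := key _ hall
    suffices e : ρ xs[k] = o from e ▸ ho
    refine ext_oG fun x => ?_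
    obtain ⟨v, rfl⟩ := dc_surj x
    rw [hov v v.2, ← hcode]
    have h := hspec [k] (by simpa using hk) v
    simp only [List.map_cons, List.map_nil, List.prod_cons, List.prod_nil, mul_one, wCode, List.foldr_cons,
      List.foldr_nil, List.getD_eq_getElem _ _ (hlen.symm ▸ hk)] at h
    rw [h]
    congr 1
    simp only [app_cmp]
    rw [app_idm (app_lt _ _)]
  · rintro o ⟨a, ha, hov⟩
    obtain ⟨o', ho', -, ho'v⟩ := hT a ha
    suffices e : o = o' from e.symm ▸ ho'
    refine ext_oG fun x => ?_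
    obtain ⟨v, rfl⟩ := dc_surj x
    rw [hov, ho'v]

/-- The generators fix the coordinate vector seven in the reducible configurations. -/
theorem red_fixed : ∀ g ∈ listR, app g 64 = 64 := by decide +kernel

/-- Every configuration is the natural one or a reducible one. -/
theorem outer_cases : ∀ c ∈ outerCfgs, c = (listN ++ [gNX], 255) ∨
    ∃ g, c.1 = listR ++ [g] := by
  intro c hc
  simp only [outerCfgs, List.mem_cons, List.not_mem_nil, or_false] at hc
  rcases hc with rfl | rfl | rfl | rfl | rfl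
  exacts [Or.inl rfl, Or.inr ⟨_, rfl⟩, Or.inr ⟨_, rfl⟩, Or.inr ⟨_, rfl⟩, Or.inr ⟨_, rfl⟩]

/-- The identification when the group is `Aut PSp₄(3)`. -/
theorem ident_u4 (hnd : (polarBilin Qf).Nondegenerate) (hcard : Nat.card W = 256)
    (ρ : MulAut (Cfsg.PSp 2 (ZMod 3)) →* oG Qf) (hρ : Function.Injective ρ)
    (hfree : ∀ v, (∀ x, x ^ 3 = 1 → (ρ x).1 v = v) → v = 0) :
    ∃ (r : V ≃ₗ[ZMod 2] W) (hr : ∀ x, qP 4 (r.symm x) = Qf x),
      ((oCongr r.symm hr).toMonoidHom.comp ρ).range = u4 := by
  haveI : Fact (Nat.Prime 3) := ⟨by norm_num⟩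
  let R := repOf hnd hcard ρ hρ
  let P := Cfsg.PSp 2 (ZMod 3)
  let M : Sp43.Model P := Sp43.model
  let D : Sp43.Diag M := Sp43.diag
  let i : P →* MulAut P := MulAut.conj
  have hi : Function.Injective i := by
    haveI := M.simple
    refine (MonoidHom.ker_eq_bot_iff i).1 ?_
    rcases (inferInstance : i.ker.Normal).eq_bot_or_eq_top with h | h
    · exact h
    · exfalso
      apply M.rels.ne
      have h1 : i (M.d 0) = 1 := MonoidHom.mem_ker.1 (h ▸ Subgroup.mem_top _)
      have := DFunLike.congr_fun h1 M.u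
      simp only [i, MulAut.conj_apply, MulAut.one_apply] at this
      exact (mul_inv_eq_iff_eq_mul.1 this).symm
  have hconj : ∀ (g : P), D.del * i g = i (D.del g) * D.del := fun g => by
    refine MulEquiv.ext fun w => ?_
    simp [i, MulAut.mul_apply, map_mul, map_inv]
  have hO : Act3.Outer (i ∘ M.d) (i ∘ M.s) D.del :=
    { sq := D.sq
      inv_d := fun k => by
        show D.del * i (M.d k) = (i (M.d k))⁻¹ * D.del
        rw [hconj, D.inv_d, map_inv]
      fix_s := fun k => by
        show D.del * i (M.s k) = i (M.s k) * D.del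
        rw [hconj, D.fix_s] }
  have hPgen : i.range = Subgroup.closure {y | y ∈ elems M i} := by
    rw [MonoidHom.range_eq_map, ← M.gen, MonoidHom.map_closure]
    congr 1
    ext y
    constructor
    · rintro ⟨x, ((⟨k, rfl⟩ | ⟨k, rfl⟩) | rfl), rfl⟩
      · fin_cases k <;> simp [elems]
      · fin_cases k <;> simp [elems]
      · simp [elems]
    · intro hy
      simp only [elems, Set.mem_ofPred_eq, List.mem_cons, List.not_mem_nil, or_false] at hy
      rcases hy with rfl | rfl | rfl | rfl | rfl | rfl | rfl | rfl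
      exacts [⟨_, Or.inl (Or.inl ⟨0, rfl⟩), rfl⟩, ⟨_, Or.inl (Or.inl ⟨1, rfl⟩), rfl⟩,
        ⟨_, Or.inl (Or.inl ⟨2, rfl⟩), rfl⟩, ⟨_, Or.inl (Or.inl ⟨3, rfl⟩), rfl⟩,
        ⟨_, Or.inl (Or.inr ⟨0, rfl⟩), rfl⟩, ⟨_, Or.inl (Or.inr ⟨1, rfl⟩), rfl⟩,
        ⟨_, Or.inl (Or.inr ⟨2, rfl⟩), rfl⟩, ⟨_, Or.inr rfl, rfl⟩]
  have hidx : i.range.index = 2 := by
    have h := i.range.card_mul_index
    rw [← Nat.card_congr (MonoidHom.ofInjective hi).toEquiv, card_autPSp,
      card_psp_three] at h
    omega
  have hd : D.del ∉ i.range := fun ⟨g, hg⟩ => D.notInner g hg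
  have hgen : Subgroup.closure {y | y ∈ elems M i ++ [D.del]} = ⊤ := by
    set K := Subgroup.closure {y | y ∈ elems M i ++ [D.del]}
    have hKi : i.range ≤ K := by
      rw [hPgen]
      exact Subgroup.closure_mono fun y hy => List.mem_append_left _ hy
    have hdel : D.del ∈ K := Subgroup.subset_closure (by simp)
    rw [eq_top_iff]
    intro x _
    by_cases hx : x ∈ i.range
    · exact hKi hx
    · have := (Subgroup.mul_mem_iff_of_index_two hidx (a := D.del⁻¹) (b := x)).2
        (iff_of_false (fun h => hd (by simpa using inv_mem h)) hx)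
      have := mul_mem hdel (hKi this)
      rwa [mul_inv_cancel_left] at this
  obtain ⟨c, hcm, e, Fr, hl⟩ := dichotomy_outer (R := R) (M := M) (i := i) hi hO
  rcases outer_cases c hcm with rfl | ⟨g, hg⟩
  · obtain ⟨r, hr0⟩ := exists_coord Fr
    have hr : ∀ x, qP 4 (r.symm x) = Qf x := by
      intro x
      obtain ⟨v, hv⟩ := dc_surj (r.symm x)
      have hx : x = vec e (app ofSpin v.val) := by rw [← hr0 _ v.2, hv, LinearEquiv.apply_symm_apply]
      rw [← hv, qP_dc, ← bz_decide (Qf x)]
      congr 1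
      rw [show decide (Qf x = 1) = R.q x from rfl, hx, q_vec Fr _ (app_lt _ _)]
      have h := spin_form ⟨app ofSpin v.val, app_lt _ _⟩
      rwa [← app_cmp, spin_inv.1, app_idm v.2] at h
    refine ⟨r, hr, range_of_nat _ (elems M i ++ [D.del]) rfl hgen fun w hw v => ?_⟩
    have hm : R.Moves e (wCode (w.map fun k => natGens.getD k 0))
        (w.map fun k => (elems M i ++ [D.del]).getD k 1).prod := by
      refine moves_wCode w fun k hk => ?_
      have hk9 := hw k hk
      rw [List.getD_eq_getElem _ _ (show k < (elems M i ++ [D.del]).length from hk9),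
        List.getD_eq_getElem _ _ (show k < natGens.length from hk9)]
      exact List.Forall₂.get hl hk9 hk9
    set y := (w.map fun k => (elems M i ++ [D.del]).getD k 1).prod
    show r.symm ((ρ y).1 (r (dc v.val))) = _
    rw [LinearEquiv.symm_apply_eq, hr0 _ v.2, hr0 _ (app_lt _ _),
      show (ρ y).1 (vec e (app ofSpin v.val)) = _ from R.moves_vec hm _ (app_lt _ _)]
    congr 1
    rw [app_cmp toSpin, ← app_cmp ofSpin toSpin, spin_inv.2, app_idm (app_lt _ _), app_cmp]
  · exfalso
    rw [hg] at hl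
    have hl8 : List.Forall₂ (R.Moves e) listR (elems M i) := by
      have h := List.forall₂_take 8 hl
      simpa [listR, elems] using h
    have hfix : ∀ y ∈ elems M i, R.act y (vec e 64) = vec e 64 := by
      intro y hy
      obtain ⟨k, hk, rfl⟩ := List.getElem_of_mem hy
      have hk' : k < listR.length := by rw [hl8.length_eq]; exact hk
      have h := R.moves_vec (List.Forall₂.get hl8 hk' hk) 64 (by norm_num)
      rw [show app (listR.get ⟨k, hk'⟩) 64 = 64 from red_fixed _ (List.get_mem _ _)] at h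
      exact h
    have hinner : ∀ y ∈ i.range, R.act y (vec e 64) = vec e 64 := by
      rw [hPgen]
      intro y hy
      induction hy using Subgroup.closure_induction with
      | mem y hy => exact hfix y hy
      | one => exact R.act_one _
      | mul a b _ _ ha hb => rw [R.act_mul, hb, ha]
      | inv a _ ha => conv_lhs => rw [← ha, R.act_inv_act]
    have h0 := hfree (vec e 64) fun x hx => hinner x (by
      by_contra hxn
      have h2 : x * x ∈ i.range := Subgroup.mul_self_mem_of_index_two hidx x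
      apply hxn
      have h3 : x * x * x = 1 := by rw [← hx, pow_succ, pow_two]
      rw [eq_inv_of_mul_eq_one_right (show (x * x) * x = 1 from h3)]
      exact inv_mem h2)
    have h64 : (64 : ℕ) = 0 := Fr.vec_inj (by norm_num) (by norm_num) (by rw [h0, vec_zero])
    norm_num at h64

/-- The identification when the group is `Sp(6, 2)`. -/
theorem ident_sp6 (hnd : (polarBilin Qf).Nondegenerate) (hcard : Nat.card W = 256)
    (φ : Sp6 →* oG Qf) (hφ : Function.Injective φ)
    (hfree : ∀ v, (∀ x, x ^ 3 = 1 → (φ x).1 v = v) → v = 0) :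
    ∃ (r : V ≃ₗ[ZMod 2] W) (hr : ∀ x, qP 4 (r.symm x) = Qf x),
      ((oCongr r.symm hr).toMonoidHom.comp φ).range = sp6 := by
  have h8 : Module.finrank (ZMod 2) W = 8 := by
    have h := Module.natCard_eq_pow_finrank (K := ZMod 2) (V := W)
    rw [hcard, Nat.card_zmod] at h
    exact Nat.pow_right_injective le_rfl (h.symm.trans (by norm_num : (256 : ℕ) = 2 ^ 8))
  have heven : ∀ A, dsign (φ A) = 1 := dsign_sp hnd h8 φ
  let R : TRep Qf :=
    { nondeg := hnd
      card := hcard
      t := fun a => φ (tvS a)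
      inj := hφ.comp tvS_inj
      sq := fun a => by rw [← map_mul, tvS_sq, map_one]
      rel := fun a b => by rw [← map_mul, ← map_mul, tvS_rel]
      par := fun a => (range_ne_two h8 (heven _)).1 }
  rcases R.spin_or_fixed with ⟨v, hv, hvfix⟩ | ⟨r, hr, hspec⟩
  · exfalso
    have hfixA : ∀ A : Sp6, (φ A).1 v = v := by
      refine sp_induction ?_ (fun a ha => hvfix a ha) (fun A B hA hB => ?_) (fun A hA => ?_)
      · rw [map_one]; rfl
      · rw [map_mul, oG_mul_apply, hB, hA]
      · conv_lhs => rw [← hA]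
        rw [← oG_mul_apply, ← map_mul, inv_mul_cancel, map_one]; rfl
    rw [hfree v fun x _ => hfixA x, map_zero] at hv
    exact zero_ne_one hv
  · have hr' : ∀ x, qP 4 (r.symm x) = Qf x := fun x => by rw [← hr, LinearEquiv.apply_symm_apply]
    refine ⟨r, hr', ?_⟩
    set ψ := (oCongr r.symm hr').toMonoidHom.comp φ
    have hT : ∀ a : Fin 64, a ≠ 0 → ∀ x : Fin 256, (ψ (tvS a)).1 (dc x.val) = dc (tn a.val x.val) :=
      fun a ha x => by
        show r.symm ((φ (tvS a)).1 (r (dc x.val))) = _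
        rw [show (φ (tvS a)).1 (r (dc x.val)) = _ from hspec a ha x, LinearEquiv.symm_apply_apply]
    refine le_antisymm ?_ ((Subgroup.closure_le _).2 ?_)
    · rintro _ ⟨A, rfl⟩
      refine sp_induction (P := fun A => ψ A ∈ sp6) ?_ (fun a ha => ?_) (fun A B hA hB => ?_) (fun A hA => ?_) A
      · rw [map_one]; exact one_mem _
      · exact Subgroup.subset_closure ⟨a, fun h => ha (Fin.ext h), fun x => hT a ha x⟩
      · rw [map_mul]; exact mul_mem hA hB
      · rw [map_inv]; exact inv_mem hA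
    · rintro o ⟨a, ha, hspec'⟩
      refine ⟨tvS a, ext_oG fun x => ?_⟩
      obtain ⟨v, rfl⟩ := dc_surj x
      rw [hspec', hT a (fun h => ha (by rw [h]; rfl)) v]

/-- **The identification of the action.** -/
theorem ident (hnd : (polarBilin Qf).Nondegenerate) (hcard : Nat.card W = 256) {Lb : Type*} [Group Lb]
    (ρ : Lb →* oG Qf) (hρ : Function.Injective ρ)
    (hq : Nonempty (Lb ≃* MulAut (Cfsg.PSp 2 (ZMod 3))) ∨
      Nonempty (Lb ≃* Matrix.symplecticGroup (Fin 3) (ZMod 2)))
    (hfree : ∀ v, (∀ x, x ^ 3 = 1 → (ρ x).1 v = v) → v = 0) :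
    ∃ (r : V ≃ₗ[ZMod 2] W) (hr : ∀ x, qP 4 (r.symm x) = Qf x),
      ((oCongr r.symm hr).toMonoidHom.comp ρ).range = u4 ∨
        ((oCongr r.symm hr).toMonoidHom.comp ρ).range = sp6 := by
  have key : ∀ {A : Type} [Group A] (e : Lb ≃* A), ∀ v : W,
      (∀ x : A, x ^ 3 = 1 → (ρ.comp e.symm.toMonoidHom x).1 v = v) → v = 0 := fun e v h =>
    hfree v fun x hx => by
      have := h (e x) (by rw [← map_pow, hx, map_one])
      rwa [MonoidHom.comp_apply, MulEquiv.coe_toMonoidHom, MulEquiv.symm_apply_apply] at this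
  have hrange : ∀ {A : Type} [Group A] (e : Lb ≃* A) (f : oG Qf →* O),
      (f.comp ρ).range = (f.comp (ρ.comp e.symm.toMonoidHom)).range := fun e f => by
    rw [← MonoidHom.comp_assoc]
    exact SetLike.coe_injective (e.symm.surjective.range_comp (f.comp ρ)).symm
  rcases hq with ⟨⟨e⟩⟩ | ⟨⟨e⟩⟩
  · obtain ⟨r, hr, h⟩ := ident_u4 hnd hcard _ (hρ.comp e.symm.injective) (key e)
    exact ⟨r, hr, Or.inl ((hrange e _).trans h)⟩
  · obtain ⟨r, hr, h⟩ := ident_sp6 hnd hcard _ (hρ.comp e.symm.injective) (key e)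
    exact ⟨r, hr, Or.inr ((hrange e _).trans h)⟩

end Cfsg.Agent.CoTwoThree
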